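import Cfsg.Agent.Lib.PGroup.OrthIndex.Types

/-!
Counting with quadratic forms of minus type over the field with three elements.
-/

set_option autoImplicit false
set_option linter.unusedSectionVars false

namespace CfsgLib.PGroup.OrthThreeIndex

open scoped Matrix
open Matrix Cfsg.Geo CfsgLib.Perm.Asch CfsgLib.Perm.Trans CfsgLib.Perm.Trans.Quad CfsgLib.PGroup.OrthIndex

variable {ι : Type} [Fintype ι] [DecidableEq ι] {F : Type*} [Field F] [Fintype F]
variable {Q : (ι → F) → F}

local notation "pol" => QuadraticMap.polar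

/-- The form has minus type in dimension `2 * k + 2` over three elements, said by its singular vectors. -/
structure Minus (Q : (ι → F) → F) (k : ℕ) : Prop where
  three : Fintype.card F = 3
  dim : Fintype.card ι = 2 * k + 2
  big : 3 ≤ k
  count : (sphere Q (⊤ : Submodule F (ι → F)) 0).ncard + 2 * 3 ^ k = 3 * (3 ^ k * 3 ^ k)

theorem three_eq_zero (h : Fintype.card F = 3) : (3 : F) = 0 := by
  have h1 := FiniteField.cast_card_eq_zero F
  rw [h] at h1
  exact_mod_cast h1

theorem two_ne_zero' (h : Fintype.card F = 3) : (2 : F) ≠ 0 := fun h2 =>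
  one_ne_zero (show (1 : F) = 0 by linear_combination three_eq_zero h - h2)

theorem eq_cases (h : Fintype.card F = 3) (a : F) : a = 0 ∨ a = 1 ∨ a = -1 := by
  classical
  by_contra hcon
  simp only [not_or] at hcon
  have hne : (1 : F) ≠ -1 := fun e => two_ne_zero' h (by linear_combination e)
  have hc : ({0, 1, -1, a} : Finset F).card = 4 := by
    rw [Finset.card_insert_of_notMem, Finset.card_insert_of_notMem, Finset.card_insert_of_notMem,
      Finset.card_singleton] <;> simp [hne, Ne.symm hcon.1, Ne.symm hcon.2.1, Ne.symm hcon.2.2]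
  have := Finset.card_le_univ ({0, 1, -1, a} : Finset F)
  omega

variable (hQ : IsNondegenerateQuadraticForm Q)
include hQ

/-- Every value is taken about a third of the time. -/
theorem sphere_ge (h3 : Fintype.card F = 3) (c : F) : ∀ (j : ℕ) {P : Submodule F (ι → F)}, NdOn Q P →
    Module.finrank F P = 2 * (j + 1) → 3 ^ (j + 1) * 3 ^ (j + 1) ≤ 3 * (sphere Q P c).ncard + 2 * 3 ^ (j + 1)
  | 0, P, hP, hd => by
    have := sphere_pos hQ hP (by omega) c
    omega
  | j + 1, P, hP, hd => by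
    obtain ⟨P', -, hP', hd', heq⟩ := sphere_step hQ hP (by omega) c
    have ih := sphere_ge h3 c j hP' (by omega)
    rw [heq, h3, show 3 ^ (Module.finrank F P - 2) = 3 ^ (j + 1) * 3 ^ (j + 1) by
      rw [← pow_add]; congr 1; omega, pow_succ 3 (j + 1)]
    generalize 3 ^ (j + 1) = x at ih ⊢
    nlinarith [ih]

/-- A totally singular half forces plus type. -/
theorem sphere_ge_of_ts (h3 : Fintype.card F = 3) : ∀ (j : ℕ) {P K : Submodule F (ι → F)}, NdOn Q P →
    Module.finrank F P = 2 * j → K ≤ P → (∀ x ∈ K, Q x = 0) → j ≤ Module.finrank F K →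
    3 ^ j * 3 ^ j + 2 * 3 ^ j ≤ 3 * (sphere Q P 0).ncard
  | 0, P, K, _, _, _, _, _ => by
    have : 0 < (sphere Q P 0).ncard := (Set.ncard_pos (sphere_finite hQ P 0)).2 ⟨0, P.zero_mem, qzero hQ⟩
    omega
  | j + 1, P, K, hP, hd, hKP, hK, hKd => by
    obtain ⟨P', K', hP', hle, hK', hd', hk', heq⟩ := sphere_step_ts hQ hP hKP hK (by omega)
    have ih := sphere_ge_of_ts h3 j hP' (by omega) hle hK' (by omega)
    rw [heq, h3, show 3 ^ (Module.finrank F P - 2) = 3 ^ j * 3 ^ j by rw [← pow_add]; congr 1; omega,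
      pow_succ]
    generalize 3 ^ j = x at ih ⊢
    nlinarith [ih]

variable {k : ℕ}

theorem W_dim (hM : Minus Q k) (Φ : Frame Q) (hP : Φ.P = ⊤) : Module.finrank F (Φ.W hQ) = 2 * k := by
  have := Φ.W_finrank hQ
  rw [hP, finrank_top, Module.finrank_fintype_fun_eq_card, hM.dim] at this
  omega

/-- The orthogonal of a hyperbolic pair has no totally singular half. -/
theorem W_flexible (hM : Minus Q k) (Φ : Frame Q) (hP : Φ.P = ⊤) : Flexible Q (Φ.W hQ) := by
  have hW := W_dim hQ hM Φ hP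
  have hk := hM.big
  refine Or.inr ⟨hM.three.ge, by omega, fun K hKW hK => ?_⟩
  by_contra hlt
  have h1 := sphere_ge_of_ts hQ hM.three k (Φ.W_nd hQ) hW hKW hK (by omega)
  have h2 := card_sphere hQ (P := (⊤ : Submodule F (ι → F))) Submodule.mem_top Submodule.mem_top Φ.hQe Φ.hQf
    Φ.hef 0
  rw [finrank_top, Module.finrank_fintype_fun_eq_card, hM.dim, hM.three, Nat.add_sub_cancel, two_mul,
    pow_add, show pairPerp hQ (⊤ : Submodule F (ι → F)) Φ.e Φ.f = Φ.W hQ by rw [Frame.W, hP]] at h2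
  have h3 := hM.count
  have h4 : 0 < 3 ^ k := pow_pos (by norm_num) k
  omega

/-- The number of non-zero vectors of a given value in the orthogonal of a pair. -/
theorem W_class (hM : Minus Q k) (Φ : Frame Q) (hP : Φ.P = ⊤) (c : F) :
    3 ^ k * 3 ^ k ≤ 3 * (sphere Q (Φ.W hQ) c \ {0}).ncard + 2 * 3 ^ k + 3 := by
  obtain ⟨j, rfl⟩ : ∃ j, k = j + 1 := ⟨k - 1, by have := hM.big; omega⟩
  have h1 := sphere_ge hQ hM.three c j (Φ.W_nd hQ) (W_dim hQ hM Φ hP)
  have h2 := sphere_ne_zero_card hQ (Φ.W hQ) c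
  omega

/-- The group generated by the Eichler transformations of `W` is transitive on non-zero vectors of a value. -/
theorem move_W (hM : Minus Q k) (Φ : Frame Q) (hP : Φ.P = ⊤) {v v' : ι → F} (hv : v ∈ Φ.W hQ)
    (hv' : v' ∈ Φ.W hQ) (hv0 : v ≠ 0) (hv'0 : v' ≠ 0) (hQ' : Q v = Q v') :
    ∃ g ∈ inner hQ (Φ.W hQ), act g v = v' := by
  obtain ⟨g, hg, -, hgv⟩ := move' hQ (W_flexible hQ hM Φ hP) (Φ.W_nd hQ)
    (by have := W_dim hQ hM Φ hP; have := hM.big; omega) (Φ.W hQ).zero_mem hv hv'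
    (fun c => by rwa [smul_zero]) (fun c => by rwa [smul_zero]) hQ' (by rw [pzero_left hQ, pzero_left hQ])
  exact ⟨g, hg, hgv⟩

end CfsgLib.PGroup.OrthThreeIndex
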