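import Cfsg.Agent.Lib.PGroup.OrthThreeIndex.Counts

/-!
The stabilisers in the unipotent radical over three elements: trivial, everything, or a hyperplane.
-/

set_option autoImplicit false
set_option linter.unusedSectionVars false

namespace CfsgLib.PGroup.OrthThreeIndex

open scoped Matrix
open Matrix Cfsg.Geo CfsgLib.Perm.Asch CfsgLib.Perm.Trans CfsgLib.Perm.Trans.Quad CfsgLib.PGroup.OrthIndex

variable {ι : Type} [Fintype ι] [DecidableEq ι] {F : Type*} [Field F] [Fintype F]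
variable {Q : (ι → F) → F}

local notation "pol" => QuadraticMap.polar

variable (hQ : IsNondegenerateQuadraticForm Q) {k : ℕ} (hM : Minus Q k) (Φ : Frame Q)
variable {X : Type*} [MulAction ↥(eGroup Q) X]
include hQ hM

theorem smul_mem_dual {y : X} {u : ι → F} (hu : u ∈ Φ.dual hQ y) (c : F) : c • u ∈ Φ.dual hQ y := by
  rcases eq_cases hM.three c with rfl | rfl | rfl
  · rw [zero_smul]; exact Φ.zero_mem_dual hQ y
  · rwa [one_smul]
  · rw [neg_one_smul]; exact Φ.neg_mem_dual hQ hu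

/-- The vectors of `W` orthogonal to a set. -/
def perp (U : Set (ι → F)) : Set (ι → F) := {v | v ∈ Φ.W hQ ∧ ∀ u ∈ U, pol Q v u = 0}

theorem mem_perp_dual {y : X} {v : ι → F} (hv : v ∈ Φ.W hQ) :
    v ∈ perp hQ Φ (Φ.dual hQ y) ↔ el hQ Φ.e v • y = y := by
  refine ⟨fun h => Φ.fix_of_dual hQ hv fun u hu => ?_, fun h => ⟨hv, fun u hu => psi_separates fun c => ?_⟩⟩
  · rw [h.2 u hu, AddChar.map_zero_eq_one]
  · rw [mul_comm, ← psmul_right hQ]
    exact (smul_mem_dual hQ hM Φ hu c).2 v hv h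

theorem perp_card (hP : Φ.P = ⊤) (y : X) :
    (perp hQ Φ (Φ.dual hQ y)).ncard * (Φ.dual hQ y).ncard = 3 ^ k * 3 ^ k := by
  have e : perp hQ Φ (Φ.dual hQ y) = Subtype.val '' (Φ.stab hQ y : Set (Φ.W hQ)) := by
    ext v
    constructor
    · intro h
      exact ⟨⟨v, h.1⟩, (mem_perp_dual hQ hM Φ h.1).1 h, rfl⟩
    · rintro ⟨a, ha, rfl⟩
      exact (mem_perp_dual hQ hM Φ a.2).2 ha
  rw [e, Set.ncard_image_of_injective _ Subtype.val_injective, Φ.dual_card hQ y, ← Nat.card_coe_set_eq,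
    mul_comm, ← pow_add, ← two_mul, ← hM.three, ← W_dim hQ hM Φ hP, ← natCard_submodule hQ,
    AddSubgroup.card_eq_card_quotient_mul_card_addSubgroup (Φ.stab hQ y)]
  rfl

theorem inner_dual {g : ↥(eGroup Q)} (hg : g ∈ inner hQ (Φ.W hQ)) (y : X) :
    Φ.dual hQ (g • y) = act g '' Φ.dual hQ y := by
  rw [(Φ.mem_inner_levi hQ hg).dual y]
  refine Set.image_congr fun a ha => ?_
  rw [Φ.leviMap_of_mem hQ (inner_maps hQ hg ha.1), inv_one, one_smul]

theorem inner_duals {g : ↥(eGroup Q)} (hg : g ∈ inner hQ (Φ.W hQ)) (y : X) :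
    act g '' Φ.dual hQ y ∈ Φ.duals hQ y :=
  ⟨g, 1, Φ.mem_inner_levi hQ hg, (inner_dual hQ hM Φ hg y).symm⟩

omit hM in
/-- Counting pairs over their first vector. -/
theorem ncard_pairs (A : Set (ι → F)) (f : (ι → F) → Set (ι → F)) (b : ℕ) :
    ((∀ a ∈ A, (f a).ncard ≤ b) → {p : (ι → F) × (ι → F) | p.1 ∈ A ∧ p.2 ∈ f p.1}.ncard ≤ A.ncard * b) ∧
      ((∀ a ∈ A, b ≤ (f a).ncard) → A.ncard * b ≤ {p : (ι → F) × (ι → F) | p.1 ∈ A ∧ p.2 ∈ f p.1}.ncard) := by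
  classical
  have e : {p : (ι → F) × (ι → F) | p.1 ∈ A ∧ p.2 ∈ f p.1}.ncard = ∑ a : A, (f a.1).ncard := by
    rw [← Nat.card_coe_set_eq, Nat.card_congr
      (⟨fun p => ⟨⟨p.1.1, p.2.1⟩, ⟨p.1.2, p.2.2⟩⟩, fun p => ⟨(p.1.1, p.2.1), p.1.2, p.2.2⟩,
        fun _ => rfl, fun _ => rfl⟩ : {p : (ι → F) × (ι → F) | p.1 ∈ A ∧ p.2 ∈ f p.1} ≃ Σ a : A, f a.1),
      Nat.card_sigma]
    exact Finset.sum_congr rfl fun a _ => Nat.card_coe_set_eq _
  rw [e, show A.ncard = (Finset.univ : Finset A).card by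
    rw [Finset.card_univ, ← Nat.card_eq_fintype_card, Nat.card_coe_set_eq], ← smul_eq_mul]
  exact ⟨fun h => Finset.sum_le_card_nsmul _ _ _ fun a _ => h a.1 a.2,
    fun h => Finset.card_nsmul_le_sum _ _ _ fun a _ => h a.1 a.2⟩

/-- A dual that is neither zero, nor everything, nor a line forces too many points. -/
theorem dual_cases (hP : Φ.P = ⊤) [Finite X]
    (hsmall : 2 * Nat.card X + 2 * 3 ^ k + 3 ≤ 3 * (3 ^ k * 3 ^ k)) (y : X) :
    (Φ.dual hQ y).ncard = 1 ∨ (Φ.dual hQ y).ncard = 3 ∨ (Φ.dual hQ y).ncard = 3 ^ k * 3 ^ k := by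
  classical
  have hWd := W_dim hQ hM Φ hP
  have hk := hM.big
  have hDE := perp_card hQ hM Φ hP y
  set D := (Φ.dual hQ y).ncard with hDdef
  set E := (perp hQ Φ (Φ.dual hQ y)).ncard with hEdef
  obtain ⟨i, hi, hDi⟩ := (Nat.dvd_prime_pow Nat.prime_three).1
    (show D ∣ 3 ^ (2 * k) by rw [two_mul, pow_add, ← hDE]; exact dvd_mul_left _ _)
  obtain ⟨j, -, hEj⟩ := (Nat.dvd_prime_pow Nat.prime_three).1
    (show E ∣ 3 ^ (2 * k) by rw [two_mul, pow_add, ← hDE]; exact dvd_mul_right _ _)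
  have hij : j + i = k + k := Nat.pow_right_injective (le_refl 2 |>.trans (by norm_num : 2 ≤ 3)) (by
    show 3 ^ (j + i) = 3 ^ (k + k)
    rw [pow_add, pow_add, ← hDE, hEj, hDi])
  by_contra hcon
  simp only [not_or] at hcon
  have hi0 : i ≠ 0 := fun h => hcon.1 (by rw [hDi, h, pow_zero])
  have hi1 : i ≠ 1 := fun h => hcon.2.1 (by rw [hDi, h, pow_one])
  have hj0 : j ≠ 0 := fun h => hcon.2.2 (by rw [hDi, ← pow_add]; congr 1; omega)
  have hperp : ∀ U ∈ Φ.duals hQ y, U.ncard = D ∧ (perp hQ Φ U).ncard = E := fun U ⟨g, c, hg, hU⟩ => by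
    have h1 := perp_card hQ hM Φ hP (g • y)
    have h2 : (Φ.dual hQ (g • y)).ncard = D := hg.dual_ncard y
    rw [h2, ← hDE] at h1
    rw [hU]
    exact ⟨h2, Nat.eq_of_mul_eq_mul_right (by rw [hDi]; exact pow_pos (by norm_num) i) h1⟩
  have hzero : ∀ U ∈ Φ.duals hQ y, (0 : ι → F) ∈ U := fun U ⟨g, c, _, hU⟩ => hU ▸ Φ.zero_mem_dual hQ _
  -- the orthogonals of the duals cover a class, so the dual is small
  obtain ⟨v, hv, hv0⟩ := Set.exists_ne_of_one_lt_ncard (s := perp hQ Φ (Φ.dual hQ y))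
    (by rw [← hEdef, hEj]; exact Nat.one_lt_pow hj0 (by norm_num)) 0
  have ha := Φ.duals_tuples hQ (Ω := Set.univ) Set.finite_univ y (fun g c _ a _ => Set.mem_univ _)
    (fun w U => w ∈ perp hQ Φ U \ {0}) (sphere Q (Φ.W hQ) (Q v) \ {0})
    (fun w ⟨⟨hw, hQw⟩, hw0⟩ => by
      obtain ⟨g, hg, hgv⟩ := move_W hQ hM Φ hP hv.1 hw hv0 hw0 hQw.symm
      refine ⟨_, inner_duals hQ hM Φ hg y, ⟨hw, ?_⟩, hw0⟩
      rintro _ ⟨u, hu, rfl⟩
      rw [← hgv, pol_act]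
      exact hv.2 u hu) (E - 1) fun U hU => by
        show (perp hQ Φ U \ {0}).ncard ≤ E - 1
        rw [Set.ncard_sdiff_singleton_of_mem (show (0 : ι → F) ∈ perp hQ Φ U from
          ⟨(Φ.W hQ).zero_mem, fun u _ => pzero_left hQ u⟩), (hperp U hU).2]
  rw [Set.ncard_univ, ← hDdef] at ha
  have hC := W_class hQ hM Φ hP (Q v)
  have hKpos : 27 ≤ 3 ^ k := (Nat.pow_le_pow_right (by norm_num) hk).trans' (by norm_num)
  have hEK : ¬ 3 * E ≤ 3 ^ k := fun hle => by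
    have h1 : Nat.card X * (E - 1) * E ≤ Nat.card X * E * E :=
      Nat.mul_le_mul_right _ (Nat.mul_le_mul_left _ (Nat.sub_le _ _))
    have h2 := Nat.mul_le_mul_right E ha
    rw [mul_assoc _ D E, mul_comm D E, hDE] at h2
    have h3 := Nat.mul_le_mul (Nat.mul_le_mul_left (Nat.card X) hle) hle
    generalize (sphere Q (Φ.W hQ) (Q v) \ {0}).ncard = C at *
    generalize 3 ^ k = K at *
    generalize Nat.card X = n at *
    have h4 : 9 * C * (K * K) ≤ n * (K * K) := by nlinarith [h1, h2, h3]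
    have h5 := Nat.le_of_mul_le_mul_right h4 (by nlinarith)
    nlinarith [h5, hC, hsmall, hKpos]
  have hjk : k ≤ j := by
    by_contra hlt
    exact hEK (by rw [hEj, ← pow_succ']; exact Nat.pow_le_pow_right (by norm_num) (by omega))
  have hik : i ≤ k := by omega
  have hD9 : 9 ≤ D := by
    rw [hDi]; exact (Nat.pow_le_pow_right (by norm_num) (show 2 ≤ i by omega)).trans' (by norm_num)
  -- pairs in the duals
  have key : ∀ a ∈ Φ.dual hQ y, a ≠ 0 → ∀ b ∈ Φ.dual hQ y, (∀ c : F, b ≠ c • a) → ∀ B : ℕ,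
      (∀ U ∈ Φ.duals hQ y, ∀ a' ∈ U, a' ≠ 0 → Q a' = Q a →
        {b' | b' ∈ U ∧ Q b' = Q b ∧ pol Q b' a' = pol Q b a ∧ ∀ c : F, b' ≠ c • a'}.ncard ≤ B) →
      (sphere Q (Φ.W hQ) (Q a) \ {0}).ncard * (2 * 3 ^ (2 * k - 3)) * D ≤ Nat.card X * ((D - 1) * B) := by
    intro a ha' ha0 b hb hba B hB
    let Sl : (ι → F) → Set (ι → F) := fun a' =>
      {b' | b' ∈ Φ.W hQ ∧ Q b' = Q b ∧ pol Q b' a' = pol Q b a ∧ ∀ c : F, b' ≠ c • a'}
    have hT := Φ.duals_tuples hQ (Ω := Set.univ) Set.finite_univ y (fun g c _ a _ => Set.mem_univ _)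
      (fun p U => p.1 ∈ U \ {0} ∧ p.2 ∈ {b' | b' ∈ U ∧ b' ∈ Sl p.1} ∧ Q p.1 = Q a)
      {p : (ι → F) × (ι → F) | p.1 ∈ sphere Q (Φ.W hQ) (Q a) \ {0} ∧ p.2 ∈ Sl p.1}
      (fun ⟨a', b'⟩ ⟨⟨⟨ha'W, hQa'⟩, ha'0⟩, hb'⟩ => by
        obtain ⟨hb'W, hQb', hpol, hb'n⟩ := hb'
        obtain ⟨g₁, hg₁, hg₁a⟩ := move_W hQ hM Φ hP ha'.1 ha'W ha0 ha'0 hQa'.symm
        obtain ⟨g₂, hg₂, hg₂a, hg₂b⟩ := move' hQ (W_flexible hQ hM Φ hP) (Φ.W_nd hQ) (by omega) ha'W
          (inner_maps hQ hg₁ hb.1) hb'W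
          (fun c h => hba c (act_injective g₁ (by rw [h, act_smul, hg₁a]))) hb'n
          (by rw [Q_act (Q := Q), hQb'])
          (by rw [pcomm a' b', hpol, ← hg₁a, pol_act, pcomm])
        refine ⟨_, inner_duals hQ hM Φ (mul_mem hg₂ hg₁) y, ⟨⟨a, ha', ?_⟩, ha'0⟩,
          ⟨⟨b, hb, ?_⟩, hb'W, hQb', hpol, hb'n⟩, hQa'⟩
        · rw [act_mul, hg₁a, hg₂a]
        · rw [act_mul, hg₂b])
      ((D - 1) * B) (fun U hU => by
        have h1 := (ncard_pairs hQ {a' | a' ∈ U \ {0} ∧ Q a' = Q a}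
          (fun a' => {b' | b' ∈ U ∧ b' ∈ Sl a'}) B).1 fun a' ⟨⟨hu, hu0⟩, hq⟩ =>
            (Set.ncard_le_ncard (t := {b' | b' ∈ U ∧ Q b' = Q b ∧ pol Q b' a' = pol Q b a ∧ ∀ c : F, b' ≠ c • a'})
              (fun b' hb' => ⟨hb'.1, hb'.2.2⟩) (Set.toFinite _)).trans (hB U hU a' hu hu0 hq)
        refine le_trans (le_trans (Set.ncard_le_ncard ?_ (Set.toFinite _)) h1) (Nat.mul_le_mul_right _ ?_)
        · rintro p ⟨h1, h2, h3⟩
          exact ⟨⟨h1, h3⟩, h2⟩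
        · refine (Set.ncard_le_ncard (fun z hz => hz.1) (Set.toFinite _)).trans ?_
          rw [Set.ncard_sdiff_singleton_of_mem (hzero U hU), (hperp U hU).1])
    rw [Set.ncard_univ, ← hDdef] at hT
    refine le_trans (Nat.mul_le_mul_right _ ?_) hT
    refine (ncard_pairs hQ _ Sl _).2 fun a' ⟨⟨ha'W, _⟩, ha'0⟩ => ?_
    have := card_slice_ge hQ (Φ.W_nd hQ) (by omega) ha'W ha'0 (Q b) (pol Q b a)
    rwa [hWd, hM.three] at this
  have hexpo : 3 ^ (2 * k - 3) * 27 = 3 ^ k * 3 ^ k := by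
    rw [show (27 : ℕ) = 3 ^ 3 by norm_num, ← pow_add, ← pow_add]; congr 1; omega
  have hsub : ∀ U ∈ Φ.duals hQ y, ∀ a' ∈ U, a' ≠ 0 → -a' ∈ U ∧ (-a' : ι → F) ≠ a' := fun U ⟨g, c, _, hU⟩ a' h h0 => by
    refine ⟨hU ▸ Φ.neg_mem_dual hQ (hU ▸ h), fun e => h0 ?_⟩
    have h2 : (2 : F) • a' = 0 := by rw [two_smul]; nth_rewrite 1 [← e]; exact neg_add_cancel a'
    exact (smul_eq_zero.1 h2).resolve_left (two_ne_zero' hM.three)
  obtain ⟨a, ha', ha0⟩ := Set.exists_ne_of_one_lt_ncard (s := Φ.dual hQ y) (by rw [← hDdef]; omega) 0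
  have hsecond : ∀ a ∈ Φ.dual hQ y, ∃ b ∈ Φ.dual hQ y, ∀ c : F, b ≠ c • a := fun a _ => by
    obtain ⟨b, hb, hbn⟩ := Set.exists_mem_notMem_of_ncard_lt_ncard
      (s := ({0, a, -a} : Set (ι → F))) (t := Φ.dual hQ y) (by
        have : ({0, a, -a} : Set (ι → F)).ncard ≤ 3 :=
          (Set.ncard_insert_le _ _).trans (Nat.add_le_add_right ((Set.ncard_insert_le _ _).trans (by simp)) 1)
        omega) (Set.toFinite _)
    exact ⟨b, hb, fun c hc => hbn (by rcases eq_cases hM.three c with rfl | rfl | rfl <;> simp [hc])⟩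
  obtain ⟨b, hb, hba⟩ := hsecond a ha'
  have h1 := key a ha' ha0 b hb hba (D - 3) fun U hU a' h h0 _ => by
    obtain ⟨hn, hne⟩ := hsub U hU a' h h0
    have hs : ({0, a', -a'} : Set (ι → F)).ncard = 3 := Set.ncard_eq_three.2
      ⟨0, a', -a', Ne.symm h0, fun e => h0 (neg_eq_zero.1 e.symm), Ne.symm hne, rfl⟩
    have hsd := Set.ncard_sdiff (s := ({0, a', -a'} : Set (ι → F))) (t := U)
      (by rintro x (rfl | rfl | rfl); exacts [hzero U hU, h, hn]) (Set.toFinite _)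
    rw [(hperp U hU).1, hs] at hsd
    rw [← hsd]
    refine Set.ncard_le_ncard (fun b' ⟨hb', _, _, hb'n⟩ => ⟨hb', ?_⟩) (Set.toFinite _)
    rintro (e | e | e)
    · exact hb'n 0 (by rw [e, zero_smul])
    · exact hb'n 1 (by rw [e, one_smul])
    · exact hb'n (-1) (by rw [e, neg_one_smul])
  have hCa := W_class hQ hM Φ hP (Q a)
  have hk3 : k = 3 ∧ i = 3 := by
    by_contra hne
    have h2 : (D - 1) * (D - 3) ≤ D * (D - 3) := Nat.mul_le_mul_right _ (Nat.sub_le _ _)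
    have h3 := (h1.trans (Nat.mul_le_mul_left _ h2))
    generalize (sphere Q (Φ.W hQ) (Q a) \ {0}).ncard = C at *
    have h4' : D * (C * (2 * 3 ^ (2 * k - 3))) ≤ D * (Nat.card X * (D - 3)) := by
      calc D * (C * (2 * 3 ^ (2 * k - 3))) = C * (2 * 3 ^ (2 * k - 3)) * D := by ring
        _ ≤ _ := h3
        _ = _ := by ring
    have h4 : C * (2 * 3 ^ (2 * k - 3)) ≤ Nat.card X * (D - 3) :=
      Nat.le_of_mul_le_mul_left h4' (show 0 < D by omega)
    have h5 : C * (2 * (3 ^ k * 3 ^ k)) ≤ 27 * (Nat.card X * (D - 3)) := by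
      rw [← hexpo]; nlinarith [h4]
    by_cases hk4 : 4 ≤ k
    · have h6 : D - 3 + 3 ≤ 3 ^ k := by
        rw [Nat.sub_add_cancel (by omega), hDi]; exact Nat.pow_le_pow_right (by norm_num) hik
      have h7 : 81 ≤ 3 ^ k := (Nat.pow_le_pow_right (by norm_num) hk4).trans' (by norm_num)
      generalize 3 ^ k = K at *
      generalize D - 3 = d at *
      generalize Nat.card X = n at *
      have e1 : 2 * n * d ≤ 3 * (K * K) * d := Nat.mul_le_mul_right _ (by omega)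
      have e2 : 12 * C * (K * K) ≤ 243 * d * (K * K) := by linarith [h5, e1]
      have e3 := Nat.le_of_mul_le_mul_right e2 (Nat.mul_pos (by omega) (by omega))
      have e4 : 81 * K ≤ K * K := Nat.mul_le_mul_right _ h7
      omega
    · obtain rfl : k = 3 := by omega
      have hD : D = 9 := by rw [hDi, show i = 2 by omega]; norm_num
      rw [hD] at h5
      omega
  obtain ⟨rfl, rfl⟩ := hk3
  have hD27 : D = 27 := hDi.trans (by norm_num)
  by_cases hts : ∀ x ∈ Φ.dual hQ y, Q x = 0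
  · let M : Submodule F (ι → F) :=
      { carrier := Φ.dual hQ y
        add_mem' := fun h h' => Φ.add_mem_dual hQ h h'
        zero_mem' := Φ.zero_mem_dual hQ y
        smul_mem' := fun c _ h => smul_mem_dual hQ hM Φ h c }
    rcases W_flexible hQ hM Φ hP with h4 | ⟨-, -, hlag⟩
    · have := hM.three; omega
    have h2 := hlag M (fun v hv => hv.1) hts
    have h3 : 3 ^ Module.finrank F M = 27 := by
      rw [← hM.three, ← natCard_submodule hQ, ← hD27, hDdef, ← Nat.card_coe_set_eq]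
      rfl
    have : Module.finrank F M = 3 := Nat.pow_right_injective (le_refl 2 |>.trans (by norm_num : 2 ≤ 3))
      (show 3 ^ Module.finrank F M = 3 ^ 3 by rw [h3])
    omega
  simp only [not_forall] at hts
  obtain ⟨c, hc, hQc⟩ := hts
  have hc0 : c ≠ 0 := fun h => hQc (by rw [h, qzero hQ])
  obtain ⟨d, hd, hdc⟩ := hsecond c hc
  have h6 := key c hc hc0 d hd hdc 9 fun U hU a' h h0 hQa' => by
    obtain ⟨g, s, hg, rfl⟩ := hU
    let M : Submodule F (ι → F) :=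
      { carrier := Φ.dual hQ (g • y)
        add_mem' := fun h h' => Φ.add_mem_dual hQ h h'
        zero_mem' := Φ.zero_mem_dual hQ (g • y)
        smul_mem' := fun c _ h => smul_mem_dual hQ hM Φ h c }
    have hM27 : 3 ^ Module.finrank F M = 27 := by
      rw [← hM.three, ← natCard_submodule hQ, ← hD27, hDdef, ← hg.dual_ncard y, ← Nat.card_coe_set_eq]
      rfl
    have hlt : Module.finrank F (orthIn hQ M a') < Module.finrank F M :=
      Submodule.finrank_lt_finrank_of_lt (lt_of_le_of_ne inf_le_left fun e => by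
        have h7 : a' ∈ orthIn hQ M a' := by rw [e]; exact h
        have h8 := ((mem_orthIn hQ).1 h7).2
        rw [pself hQ, hQa'] at h8
        exact mul_ne_zero (two_ne_zero' hM.three) hQc h8)
    have h9 : Module.finrank F M = 3 := Nat.pow_right_injective (le_refl 2 |>.trans (by norm_num : 2 ≤ 3))
      (show 3 ^ Module.finrank F M = 3 ^ 3 by rw [hM27])
    rcases Set.eq_empty_or_nonempty {b' | b' ∈ Φ.dual hQ (g • y) ∧ Q b' = Q d ∧ pol Q b' a' = pol Q d c ∧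
        ∀ r : F, b' ≠ r • a'} with he | ⟨b₀, hb₀⟩
    · rw [he, Set.ncard_empty]; norm_num
    refine (Set.ncard_le_ncard_of_injOn (fun b' => b' - b₀) (t := (orthIn hQ M a' : Set (ι → F))) ?_
      (fun u _ v _ e => sub_left_inj.1 e) (Set.toFinite _)).trans ?_
    · rintro b' ⟨hb', -, hp, -⟩
      exact (mem_orthIn hQ).2 ⟨M.sub_mem hb' hb₀.1, by rw [psub_left hQ, hp, hb₀.2.2.1, sub_self]⟩
    · rw [← Nat.card_coe_set_eq]
      refine (natCard_submodule hQ (orthIn hQ M a')).le.trans ?_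
      rw [hM.three]
      exact (Nat.pow_le_pow_right (by norm_num) (show _ ≤ 2 by omega)).trans (by norm_num)
  have hCc := W_class hQ hM Φ hP (Q c)
  rw [hD27] at h6
  norm_num at h6 hCc hsmall
  nlinarith [h6, hCc, hsmall]

/-- The three possible stars. -/
theorem classify (hP : Φ.P = ⊤) [Finite X]
    (hsmall : 2 * Nat.card X + 2 * 3 ^ k + 3 ≤ 3 * (3 ^ k * 3 ^ k)) (x : X) :
    Full hQ x Φ.e ∨ (Φ.dual hQ x).ncard = 3 ∧ Hyp hQ x Φ.e ∨ Triv hQ x Φ.e := by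
  have hproj : ∀ a, pol Q Φ.e a = 0 → Φ.proj a ∈ Φ.W hQ ∧ ∀ u ∈ Φ.W hQ, pol Q (Φ.proj a) u = pol Q a u :=
    fun a ha => ⟨Φ.proj_mem hQ (by rw [hP]; exact Submodule.mem_top) (by rw [pcomm, ha]), fun u hu => by
      rw [pcomm, Φ.pol_proj hQ (Φ.pol_e' hQ hu), pcomm]⟩
  have h0 := Φ.zero_mem_dual hQ x
  rcases dual_cases hQ hM Φ hP hsmall x with h | h | h
  · refine Or.inl (Φ.full_of_W hQ hP fun a ha => Φ.fix_of_dual hQ ha fun u hu => ?_)
    rw [(Set.ncard_le_one (Set.toFinite _)).1 h.le u hu 0 h0, pzero_right hQ, AddChar.map_zero_eq_one]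
  · obtain ⟨u, hu, hu0⟩ := Set.exists_ne_of_one_lt_ncard (s := Φ.dual hQ x) (by omega) 0
    have hne : (-u : ι → F) ≠ u := fun e => hu0 (by
      have h2 : (2 : F) • u = 0 := by rw [two_smul]; nth_rewrite 1 [← e]; exact neg_add_cancel u
      exact (smul_eq_zero.1 h2).resolve_left (two_ne_zero' hM.three))
    have hD : ({0, u, -u} : Set (ι → F)) = Φ.dual hQ x := Set.eq_of_subset_of_ncard_le
      (by rintro v (rfl | rfl | rfl); exacts [h0, hu, Φ.neg_mem_dual hQ hu]) (by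
        rw [h, Set.ncard_eq_three.2 ⟨0, u, -u, Ne.symm hu0, fun e => hu0 (neg_eq_zero.1 e.symm), Ne.symm hne, rfl⟩])
      (Set.toFinite _)
    refine Or.inr (Or.inl ⟨h, u, Φ.pol_e hQ hu.1, fun c => Φ.not_line hQ hu.1 hu0 c, fun a ha hau => ?_⟩)
    obtain ⟨ha', hpa⟩ := hproj a ha
    rw [← Φ.el_proj hQ ha]
    refine (mem_perp_dual hQ hM Φ ha').1 ⟨ha', fun v hv => ?_⟩
    rw [← hD] at hv
    rcases hv with rfl | rfl | rfl
    · rw [pzero_right hQ]
    · rw [hpa _ hu.1, hau]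
    · rw [pneg_right hQ, hpa _ hu.1, hau, neg_zero]
  · refine Or.inr (Or.inr fun a ha => ?_)
    obtain ⟨ha', -⟩ := hproj a ha.1
    have h1 := perp_card hQ hM Φ hP x
    rw [h] at h1
    have h2 : (perp hQ Φ (Φ.dual hQ x)).ncard = 1 := by
      refine Nat.eq_of_mul_eq_mul_right (m := 3 ^ k * 3 ^ k) (Nat.mul_pos (pow_pos (by norm_num) k) (pow_pos (by norm_num) k)) ?_
      rw [h1, one_mul]
    have h3 : Φ.proj a = 0 := (Set.ncard_le_one (Set.toFinite _)).1 h2.le _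
      ((mem_perp_dual hQ hM Φ ha').2 (by rw [Φ.el_proj hQ ha.1]; exact ha.2)) 0
      ⟨(Φ.W hQ).zero_mem, fun u _ => pzero_left hQ u⟩
    exact ⟨pol Q a Φ.f, sub_eq_zero.1 h3⟩

/-- A trivial star has the whole of `W` as dual. -/
theorem dual_of_triv (hP : Φ.P = ⊤) {x : X} (h : Triv hQ x Φ.e) :
    (Φ.dual hQ x).ncard = 3 ^ k * 3 ^ k := by
  have h1 := perp_card hQ hM Φ hP x
  have h2 : (perp hQ Φ (Φ.dual hQ x)).ncard = 1 := Set.ncard_eq_one.2 ⟨0, Set.eq_singleton_iff_unique_mem.2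
    ⟨⟨(Φ.W hQ).zero_mem, fun u _ => pzero_left hQ u⟩, fun v hv => by
      obtain ⟨c, hc⟩ := h v ⟨Φ.pol_e hQ hv.1, (mem_perp_dual hQ hM Φ hv.1).1 hv⟩
      by_contra hne
      exact Φ.not_line hQ hv.1 hne c hc⟩⟩
  rwa [h2, one_mul] at h1

end CfsgLib.PGroup.OrthThreeIndex
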