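import Cfsg.Agent.Lib.PGroup.OrthThreeIndex.NoTriv
import Cfsg.Agent.Lib.PGroup.OrthIndex.Final

/-!
The index bound for the minus type orthogonal groups over three elements.
-/

set_option autoImplicit false
set_option linter.unusedSectionVars false

namespace CfsgLib.PGroup.OrthThreeIndex

open scoped Matrix
open Matrix Cfsg.Geo CfsgLib.Perm.Asch CfsgLib.Perm.Trans CfsgLib.Perm.Trans.Quad CfsgLib.PGroup.OrthIndex

variable {ι : Type} [Fintype ι] [DecidableEq ι] {F : Type*} [Field F] [Fintype F]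
variable {Q : (ι → F) → F}

local notation "pol" => QuadraticMap.polar

variable (hQ : IsNondegenerateQuadraticForm Q) {k : ℕ} (hM : Minus Q k)
include hQ hM

theorem index_bound {H : Subgroup ↥(eGroup Q)} (hH : H ≠ ⊤) :
    (sphere Q (⊤ : Submodule F (ι → F)) 0).ncard - 1 ≤ H.index * (Fintype.card F - 1) := by
  classical
  by_contra hlt
  rw [not_le, hM.three] at hlt
  change H.index * 2 < _ at hlt
  have hk := hM.big
  have h6 : 6 ≤ Fintype.card ι := by have := hM.dim; omega
  set X := ↥(eGroup Q) ⧸ H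
  have hX : ∀ p p' : X, ∃ g : ↥(eGroup Q), g • p = p' := MulAction.exists_smul_eq _
  have hsmall : 2 * Nat.card X + 2 * 3 ^ k + 3 ≤ 3 * (3 ^ k * 3 ^ k) := by
    have h1 : H.index = Nat.card X := rfl
    have h2 := hM.count
    have h3 : Odd (3 * (3 ^ k * 3 ^ k)) := by
      simp only [Nat.odd_mul, Nat.odd_pow_iff (show k ≠ 0 by omega)]
      decide
    obtain ⟨r, hr⟩ := h3
    omega
  set x : X := QuotientGroup.mk 1
  have hnofull : ¬ ∀ z, Q z = 0 → z ≠ 0 → Full hQ x z := fun h => by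
    refine hH (eq_top_iff.2 fun g _ => ?_)
    have h1 : (QuotientGroup.mk (g * 1) : X) = QuotientGroup.mk 1 := fix_of_all_full hQ h g
    rwa [QuotientGroup.eq, mul_one, mul_one, inv_mem_iff] at h1
  have hcl : ∀ z, Q z = 0 → z ≠ 0 → Full hQ x z ∨ Hyp hQ x z := fun z hz hz0 => by
    obtain ⟨Φ, hP, rfl⟩ := exists_frame hQ h6 hz hz0
    rcases classify hQ hM Φ hP hsmall x with h | ⟨-, h⟩ | h
    · exact Or.inl h
    · exact Or.inr h
    · exact (not_triv hQ hM hsmall hX x Φ.hQe (Φ.e_ne hQ) h).elim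
  obtain ⟨z, hz, hz0, hzF⟩ : ∃ z, Q z = 0 ∧ z ≠ 0 ∧ Full hQ x z := by
    by_contra hnone
    simp only [not_exists, not_and] at hnone
    obtain ⟨z, -, hz0, hz⟩ := exists_singular_mem hQ (⊤ : Submodule F (ι → F))
      (by rw [finrank_top, Module.finrank_fintype_fun_eq_card]; omega)
    obtain ⟨Φ, hP, rfl⟩ := exists_frame hQ h6 hz hz0
    have hf0 : Φ.f ≠ 0 := fun h => one_ne_zero (Φ.hef.symm.trans (by rw [h, pzero_right hQ]))
    obtain ⟨c, hc, hc0, hc'⟩ := Φ.full_of_hyp_hyp hQ hP ((hcl _ hz hz0).resolve_left (hnone _ hz hz0))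
      ((hcl _ Φ.hQf hf0).resolve_left (hnone _ Φ.hQf hf0)) (by rw [W_dim hQ hM Φ hP]; omega)
      fun w hw hw0 => (hcl w hw hw0).elim (fun h => Or.inr (Or.inr h)) Or.inl
    exact hnone c hc hc0 hc'
  have hspread : ∀ z w, Q z = 0 → Q w = 0 → Full hQ x z → pol Q z w ≠ 0 → Full hQ x w := by
    intro z w hz hw hzF hzw
    have hw' : Q ((pol Q z w)⁻¹ • w) = 0 := by rw [qsmul hQ, hw, mul_zero]
    have hzw' : pol Q z ((pol Q z w)⁻¹ • w) = 1 := by rw [psmul_right hQ, inv_mul_cancel₀ hzw]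
    set Φ : Frame Q := topFrame hQ h6 hz hw' hzw'
    refine Full.of_smul hw (inv_ne_zero hzw) ?_
    rcases hcl Φ.f hw' (fun h => one_ne_zero (hzw'.symm.trans (by
        show pol Q z Φ.f = 0
        rw [h, pzero_right hQ]))) with h | h
    · exact h
    · exact Φ.full_of_full_hyp hQ rfl hzF (by rw [W_dim hQ hM Φ rfl]; omega) h
  refine hnofull fun w hw hw0 => ?_
  by_cases hzw : pol Q z w = 0
  · obtain ⟨t, ht, hzt, htw⟩ := exists_common_nonorth hQ hz0 hw0 hz hzw
    exact hspread t w ht hw (hspread z t hz ht hzF hzt) htw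
  · exact hspread z w hz hw hzF hzw

/-- The minimal index in the projective orthogonal group of minus type over three elements. -/
theorem pomega_min_index_three {N : ℕ}
    (hN : N * (Fintype.card F - 1) = (sphere Q (⊤ : Submodule F (ι → F)) 0).ncard - 1) :
    (∀ H : Subgroup (Cfsg.POmega F Q), H ≠ ⊤ → N ≤ H.index) ∧ ∃ H : Subgroup (Cfsg.POmega F Q), H.index = N :=
  pomega_min_index_of hQ (fun _ hH => index_bound hQ hM hH)
    (by have := hM.dim; have := hM.big; omega) hN

end CfsgLib.PGroup.OrthThreeIndex
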