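import Cfsg.Agent.Lib.PGroup.OrthThreeIndex.Dual

/-!
No star is trivial in an action of the minus type group over three elements on few points.
-/

set_option autoImplicit false
set_option linter.unusedSectionVars false

namespace CfsgLib.PGroup.OrthThreeIndex

open scoped Matrix
open Matrix Cfsg.Geo CfsgLib.Perm.Asch CfsgLib.Perm.Trans CfsgLib.Perm.Trans.Quad CfsgLib.PGroup.OrthIndex

variable {ι : Type} [Fintype ι] [DecidableEq ι] {F : Type*} [Field F] [Fintype F]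
variable {Q : (ι → F) → F}

local notation "pol" => QuadraticMap.polar

variable (hQ : IsNondegenerateQuadraticForm Q) {k : ℕ}
variable {X : Type*} [MulAction ↥(eGroup Q) X]
include hQ

theorem triv_map {x : X} {z : ι → F} (g : ↥(eGroup Q)) (hz : Q z = 0) (h : Triv hQ x z) :
    Triv hQ (g • x) (act g z) := fun a ha => by
  have h1 := ha.map g⁻¹ (by rw [Q_act (Q := Q), hz])
  rw [inv_smul_smul, act_inv_act] at h1
  obtain ⟨c, hc⟩ := h _ h1
  exact ⟨c, by rw [← act_smul, ← hc, act_act_inv]⟩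

/-- The orthogonal of a nonsingular vector is nondegenerate. -/
theorem nd_orth {P : Submodule F (ι → F)} (hP : NdOn Q P) {u : ι → F} (hu : u ∈ P) (huu : pol Q u u ≠ 0) :
    NdOn Q (orthIn hQ P u) := by
  intro a ha ha0
  obtain ⟨haP, hau⟩ := (mem_orthIn hQ).1 ha
  obtain ⟨z, hz, hza⟩ := (hP a haP ha0).1
  have h1 : pol Q (z - (pol Q z u / pol Q u u) • u) a = pol Q z a := by
    rw [psub_left hQ, psmul_left hQ, pcomm u a, hau, mul_zero, sub_zero]
  have hmem : z - (pol Q z u / pol Q u u) • u ∈ orthIn hQ P u :=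
    (mem_orthIn hQ).2 ⟨P.sub_mem hz (P.smul_mem _ hu), by
      rw [psub_left hQ, psmul_left hQ, div_mul_cancel₀ _ huu, sub_self]⟩
  exact ⟨⟨_, hmem, by rwa [h1]⟩, ⟨_, hmem, by rwa [pcomm, h1]⟩⟩

variable (hM : Minus Q k) [Finite X]
  (hsmall : 2 * Nat.card X + 2 * 3 ^ k + 3 ≤ 3 * (3 ^ k * 3 ^ k))
include hM hsmall

theorem act_el_center (Φ : Frame Q) {a : ι → F} (ha : pol Q Φ.e a = 0) :
    act (el hQ Φ.e a) Φ.e = Φ.e := by
  rw [act_el hQ Φ.hQe ha, pol_self_singular hQ Φ.hQe, ha]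
  module

/-- The points with trivial star at `e` form one orbit of the unipotent radical. -/
theorem triv_single (Φ : Frame Q) (hP : Φ.P = ⊤) {x y : X} (hx : Triv hQ x Φ.e) (hy : Triv hQ y Φ.e) :
    ∃ a ∈ Φ.W hQ, y = el hQ Φ.e a • x := by
  classical
  by_contra hcon
  simp only [not_exists, not_and] at hcon
  have hfree : ∀ p : X, Triv hQ p Φ.e → ∀ a ∈ Φ.W hQ, el hQ Φ.e a • p = p → a = 0 := fun p hp a ha hap => by
    obtain ⟨c, rfl⟩ := hp a ⟨Φ.pol_e hQ ha, hap⟩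
    by_contra hne
    exact Φ.not_line hQ ha hne c rfl
  have hsub : ∀ (a b : Φ.W hQ), el hQ Φ.e a.1 = el hQ Φ.e b.1 * el hQ Φ.e (a.1 - b.1) := fun a b => by
    rw [← el_add hQ Φ.hQe (Φ.pol_e hQ b.2) (Φ.pol_e hQ ((Φ.W hQ).sub_mem a.2 b.2)), add_sub_cancel]
  have hcross : ∀ a b : Φ.W hQ, el hQ Φ.e a.1 • x = el hQ Φ.e b.1 • y → False := fun a b hh => by
    rw [hsub a b, mul_smul, smul_left_cancel_iff] at hh
    exact hcon _ ((Φ.W hQ).sub_mem a.2 b.2) hh.symm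
  let toX : (Φ.W hQ) ⊕ (Φ.W hQ) → X := fun p => match p with
    | .inl a => el hQ Φ.e a.1 • x
    | .inr a => el hQ Φ.e a.1 • y
  have hinj : Function.Injective toX := by
    rintro (a | a) (b | b) hh <;> simp only [toX] at hh
    · rw [hsub a b, mul_smul, smul_left_cancel_iff] at hh
      exact congrArg Sum.inl (Subtype.ext (sub_eq_zero.1 (hfree x hx _ ((Φ.W hQ).sub_mem a.2 b.2) hh)))
    · exact (hcross a b hh).elim
    · exact (hcross b a hh.symm).elim
    · rw [hsub a b, mul_smul, smul_left_cancel_iff] at hh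
      exact congrArg Sum.inr (Subtype.ext (sub_eq_zero.1 (hfree y hy _ ((Φ.W hQ).sub_mem a.2 b.2) hh)))
  have hle := Nat.card_le_card_of_injective toX hinj
  rw [Nat.card_sum, natCard_submodule hQ, W_dim hQ hM Φ hP, hM.three, two_mul, pow_add] at hle
  have : 0 < 3 ^ k * 3 ^ k := Nat.mul_pos (pow_pos (by norm_num) k) (pow_pos (by norm_num) k)
  omega

theorem triv_card (Φ : Frame Q) (hP : Φ.P = ⊤) {x : X} (hx : Triv hQ x Φ.e) :
    {p : X | Triv hQ p Φ.e}.ncard = 3 ^ k * 3 ^ k := by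
  rw [← hM.three, ← pow_add, ← two_mul, ← W_dim hQ hM Φ hP, ← natCard_submodule hQ, ← Nat.card_coe_set_eq]
  refine (Nat.card_congr (Equiv.ofBijective
    (fun a : Φ.W hQ => (⟨el hQ Φ.e a.1 • x, ?_⟩ : {p : X | Triv hQ p Φ.e})) ⟨fun a b h => ?_, fun p => ?_⟩)).symm
  · have := triv_map hQ (el hQ Φ.e a.1) Φ.hQe hx
    rwa [act_el_center hQ hM hsmall Φ (Φ.pol_e hQ a.2)] at this
  · have h' : el hQ Φ.e a.1 • x = el hQ Φ.e b.1 • x := congrArg Subtype.val h
    rw [show el hQ Φ.e a.1 = el hQ Φ.e b.1 * el hQ Φ.e (a.1 - b.1) by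
      rw [← el_add hQ Φ.hQe (Φ.pol_e hQ b.2) (Φ.pol_e hQ ((Φ.W hQ).sub_mem a.2 b.2)), add_sub_cancel],
      mul_smul, smul_left_cancel_iff] at h'
    obtain ⟨c, hc⟩ := hx _ ⟨Φ.pol_e hQ ((Φ.W hQ).sub_mem a.2 b.2), h'⟩
    refine Subtype.ext (sub_eq_zero.1 ?_)
    by_contra hne
    exact Φ.not_line hQ ((Φ.W hQ).sub_mem a.2 b.2) hne c hc
  · obtain ⟨a, ha, hp⟩ := triv_single hQ hM hsmall Φ hP hx p.2
    exact ⟨⟨a, ha⟩, Subtype.ext hp.symm⟩

/-- A trivial star and a line at the same centre cannot coexist. -/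
theorem no_line (hX : ∀ p p' : X, ∃ g : ↥(eGroup Q), g • p = p') (Φ : Frame Q) (hP : Φ.P = ⊤) {x y : X}
    (hx : Triv hQ x Φ.e) (hy : (Φ.dual hQ y).ncard = 3) : False := by
  classical
  haveI : Fintype X := Fintype.ofFinite X
  have hk := hM.big
  have hn8 : 5 ≤ Fintype.card ι := by have := hM.dim; omega
  set Ω := {p : X | (Φ.dual hQ p).ncard = 3} with hΩ
  obtain ⟨u, hu, hu0⟩ := Set.exists_ne_of_one_lt_ncard (s := Φ.dual hQ y) (by omega) 0
  have h1 := Φ.duals_tuples hQ (Ω := Ω) (Set.toFinite _) y (fun g c hg a ha => by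
      show (Φ.dual hQ (el hQ Φ.e a • g • y)).ncard = 3
      rw [Φ.dual_el hQ ha, hg.dual_ncard y, hy])
    (fun w U => w ∈ U \ {0}) (sphere Q (Φ.W hQ) (Q u) \ {0})
    (fun w ⟨⟨hw, hQw⟩, hw0⟩ => by
      obtain ⟨g, hg, hgu⟩ := move_W hQ hM Φ hP hu.1 hw hu0 hw0 hQw.symm
      exact ⟨_, inner_duals hQ hM Φ hg y, ⟨u, hu, hgu⟩, hw0⟩) 2 fun U ⟨g, c, hg, hU⟩ => by
        show (U \ {0}).ncard ≤ 2
        rw [hU, Set.ncard_sdiff_singleton_of_mem (Φ.zero_mem_dual hQ _), hg.dual_ncard y, hy]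
  rw [hy] at h1
  have h2 := triv_card hQ hM hsmall Φ hP hx
  have h3 : Ω.ncard + {p : X | Triv hQ p Φ.e}.ncard ≤ Nat.card X := by
    have hd : Disjoint Ω {p : X | Triv hQ p Φ.e} := Set.disjoint_left.2 fun p hp hp' => by
      have hp3 : (Φ.dual hQ p).ncard = 3 := hp
      rw [dual_of_triv hQ hM Φ hP hp'] at hp3
      have : 27 ≤ 3 ^ k := (Nat.pow_le_pow_right (by norm_num) hk).trans' (by norm_num)
      nlinarith
    rw [← Set.ncard_union_eq hd (Set.toFinite _) (Set.toFinite _), ← Set.ncard_univ]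
    exact Set.ncard_le_ncard (Set.subset_univ _) (Set.toFinite _)
  have h4 := W_class hQ hM Φ hP (Q u)
  have heq : 2 * Nat.card X + 2 * 3 ^ k + 3 = 3 * (3 ^ k * 3 ^ k) := by omega
  -- double counting
  set Z := (sphere Q (⊤ : Submodule F (ι → F)) 0 \ {0}).toFinset with hZ
  have hmem : ∀ {z : ι → F}, z ∈ Z ↔ Q z = 0 ∧ z ≠ 0 := fun {z} => by
    rw [hZ, Set.mem_toFinset]
    exact ⟨fun h => ⟨h.1.2, h.2⟩, fun h => ⟨⟨Submodule.mem_top, h.1⟩, h.2⟩⟩
  have hZc : Z.card = 2 * Nat.card X + 2 := by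
    have := hM.count
    rw [hZ, ← Set.ncard_eq_toFinset_card', Set.ncard_sdiff_singleton_of_mem
      (show (0 : ι → F) ∈ sphere Q (⊤ : Submodule F (ι → F)) 0 from ⟨Submodule.mem_top, qzero hQ⟩)]
    omega
  let col : X → ℕ := fun p => (Z.filter fun z => Triv hQ p z).card
  have hcol : ∀ p p' : X, col p ≤ col p' := fun p p' => by
    obtain ⟨g, rfl⟩ := hX p p'
    refine Finset.card_le_card_of_injOn (act g) (fun z hz => ?_) (act_injective g).injOn
    simp only [Finset.coe_filter, Set.mem_setOf_eq, hmem] at hz ⊢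
    exact ⟨⟨by rw [Q_act (Q := Q), hz.1.1], fun h0 => hz.1.2 (act_injective g (by rw [h0, act_zero]))⟩,
      triv_map hQ g hz.1.1 hz.2⟩
  have hrow : ∀ z ∈ Z, (Finset.univ.filter fun p : X => Triv hQ p z).card = 3 ^ k * 3 ^ k := fun z hz => by
    obtain ⟨hQz, hz0⟩ := hmem.1 hz
    obtain ⟨g, hg, hge⟩ := exists_move hQ hn8 (Φ.e_ne hQ) hz0 Φ.hQe hQz
    have hge' : act (⟨g, hg⟩ : ↥(eGroup Q)) Φ.e = z := hge
    rw [← h2, Set.ncard_eq_toFinset_card']
    refine Finset.card_nbij' (fun p => (⟨g, hg⟩ : ↥(eGroup Q))⁻¹ • p) (fun p => (⟨g, hg⟩ : ↥(eGroup Q)) • p)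
      (fun p hp => ?_) (fun p hp => ?_) (fun p _ => smul_inv_smul _ p) fun p _ => inv_smul_smul _ p
    · simp only [Finset.coe_filter, Finset.mem_univ, true_and, Set.mem_setOf_eq, Set.coe_toFinset] at hp ⊢
      have := triv_map hQ (⟨g, hg⟩ : ↥(eGroup Q))⁻¹ hQz hp
      rwa [← hge', act_inv_act] at this
    · simp only [Finset.coe_filter, Finset.mem_univ, true_and, Set.mem_setOf_eq, Set.coe_toFinset] at hp ⊢
      have := triv_map hQ (⟨g, hg⟩ : ↥(eGroup Q)) Φ.hQe hp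
      rwa [hge'] at this
  have e1 : ∑ z ∈ Z, (Finset.univ.filter fun p : X => Triv hQ p z).card = ∑ p : X, col p := by
    simp only [col, Finset.card_filter]
    exact Finset.sum_comm
  rw [Finset.sum_congr rfl hrow, Finset.sum_congr rfl (fun p _ => le_antisymm (hcol p x) (hcol x p)),
    Finset.sum_const, Finset.sum_const, Finset.card_univ, smul_eq_mul, smul_eq_mul, hZc,
    ← Nat.card_eq_fintype_card] at e1
  have hdvd : Nat.card X ∣ (2 * Nat.card X + 2) * (3 ^ k * 3 ^ k) := ⟨col x, e1⟩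
  rw [add_mul, Nat.dvd_add_right ((Dvd.intro_left 2 rfl).mul_right _)] at hdvd
  obtain ⟨d, hd⟩ := hdvd
  have hK : 27 ≤ 3 ^ k := (Nat.pow_le_pow_right (by norm_num) hk).trans' (by norm_num)
  have hKK : 27 * 3 ^ k ≤ 3 ^ k * 3 ^ k := Nat.mul_le_mul_right _ hK
  rcases Nat.lt_or_ge d 2 with hd2 | hd2
  · have : Nat.card X * d ≤ Nat.card X * 1 := Nat.mul_le_mul_left _ (by omega)
    omega
  · have : Nat.card X * 2 ≤ Nat.card X * d := Nat.mul_le_mul_left _ hd2
    omega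

/-- No star is trivial. -/
theorem not_triv (hX : ∀ p p' : X, ∃ g : ↥(eGroup Q), g • p = p') (x : X) {z : ι → F} (hz : Q z = 0)
    (hz0 : z ≠ 0) : ¬ Triv hQ x z := by
  classical
  intro htr
  have hk := hM.big
  have h6 : 6 ≤ Fintype.card ι := by have := hM.dim; omega
  have hn5 : 5 ≤ Fintype.card ι := by omega
  have h2 := two_ne_zero' (F := F) hM.three
  obtain ⟨Φ, hP, rfl⟩ := exists_frame hQ h6 hz hz0
  have hW := W_dim hQ hM Φ hP
  have hft : ∀ (p : X) (w : ι → F), Q w = 0 → w ≠ 0 → Full hQ p w ∨ Triv hQ p w := fun p w hw hw0 => by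
    obtain ⟨Ψ, hΨ, rfl⟩ := exists_frame hQ h6 hw hw0
    rcases classify hQ hM Ψ hΨ hsmall p with h | ⟨h, -⟩ | h
    · exact Or.inl h
    · obtain ⟨g, hg, hge⟩ := exists_move hQ hn5 (Φ.e_ne hQ) hw0 Φ.hQe hw
      have h1 := triv_map hQ (⟨g, hg⟩ : ↥(eGroup Q)) Φ.hQe htr
      rw [show act (⟨g, hg⟩ : ↥(eGroup Q)) Φ.e = Ψ.e from hge] at h1
      exact (no_line hQ hM hsmall hX Ψ hΨ h1 h).elim
    · exact Or.inr h
  have hall : ∀ p : X, Triv hQ p Φ.e → ∀ w, Q w = 0 → w ≠ 0 → Triv hQ p w := by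
    intro p hp w hw hw0
    refine (hft p w hw hw0).resolve_left fun hF => ?_
    have hstep : ∀ s t : ι → F, Q s = 0 → s ≠ 0 → Q t = 0 → t ≠ 0 → pol Q s t = 0 → Full hQ p s →
        Full hQ p t := fun s t hs hs0 ht ht0 hst hFs => (hft p t ht ht0).resolve_right fun hT => by
      obtain ⟨c, hc⟩ := hT s ((hFs.star hst).swap hs ht)
      have hc0 : c ≠ 0 := fun h0 => hs0 (by rw [hc, h0, zero_smul])
      have hFt : Full hQ p t := Full.of_smul ht hc0 (hc ▸ hFs)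
      obtain ⟨Ψ, hΨ, rfl⟩ := exists_frame hQ h6 ht ht0
      obtain ⟨v, hv, hv0, -⟩ := exists_singular_mem hQ (Ψ.W hQ) (by have := W_dim hQ hM Ψ hΨ; omega)
      obtain ⟨d, hd⟩ := hT v (hFt.star (Ψ.pol_e hQ hv))
      exact Ψ.not_line hQ hv hv0 d hd
    have hFe : Full hQ p Φ.e := by
      by_cases hwe : pol Q w Φ.e = 0
      · exact hstep w Φ.e hw hw0 Φ.hQe (Φ.e_ne hQ) hwe hF
      · have hf : Q ((pol Q Φ.e w)⁻¹ • w) = 0 := by rw [qsmul hQ, hw, mul_zero]
        have hef : pol Q Φ.e ((pol Q Φ.e w)⁻¹ • w) = 1 := by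
          rw [psmul_right hQ, inv_mul_cancel₀ (by rwa [pcomm])]
        set Ψ : Frame Q := topFrame hQ h6 Φ.hQe hf hef
        obtain ⟨t, ht, ht0, hQt⟩ := exists_singular_mem hQ (Ψ.W hQ) (by have := W_dim hQ hM Ψ rfl; omega)
        have htw : pol Q w t = 0 := by
          have h1 : pol Q t ((pol Q Φ.e w)⁻¹ • w) = 0 := Ψ.pol_f hQ ht
          rw [psmul_right hQ, mul_eq_zero] at h1
          rw [pcomm]
          exact h1.resolve_left (inv_ne_zero (by rwa [pcomm]))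
        exact hstep t Φ.e hQt ht0 Φ.hQe (Φ.e_ne hQ) (Ψ.pol_e' hQ ht) (hstep w t hw hw0 hQt ht0 htw hF)
    obtain ⟨v, hv, hv0, -⟩ := exists_singular_mem hQ (Φ.W hQ) (by omega)
    obtain ⟨d, hd⟩ := hp v (hFe.star (Φ.pol_e hQ hv))
    exact Φ.not_line hQ hv hv0 d hd
  -- an element of order three of `W` fixes a point
  obtain ⟨v, hv, hv0, hQv⟩ := exists_singular_mem hQ (Φ.W hQ) (by omega)
  obtain ⟨v', hv', hQv', hvv⟩ := exists_partner hQ (Φ.W_nd hQ) hv hv0 hQv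
  set P₀ := pairPerp hQ (Φ.W hQ) v v' with hP₀
  have hP₀nd : NdOn Q P₀ := pair_nd hQ hv hv' hQv hQv' hvv (Φ.W_nd hQ)
  have hP₀d := pair_finrank_eq hQ hv hv' hQv hQv' hvv
  rw [← hP₀] at hP₀d
  obtain ⟨u, hu₀, hQu⟩ := exists_value_two hQ hP₀nd (by omega) 1
  obtain ⟨huW, huv, huv'⟩ := (mem_pairPerp hQ).1 hu₀
  have hvu : pol Q v u = 0 := by rw [pcomm, huv]
  have huu : pol Q u u ≠ 0 := by rw [pself hQ, hQu, mul_one]; exact h2
  set h := el hQ v u with hh
  have hhe : act h Φ.e = Φ.e :=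
    inner_fix hQ (el_mem_inner hQ hv huW hQv hvu) fun y hy => Φ.pol_e hQ hy
  have hhW : ∀ a ∈ Φ.W hQ, act h a ∈ Φ.W hQ := fun a ha =>
    inner_maps hQ (el_mem_inner hQ hv huW hQv hvu) ha
  have hconj : ∀ (g : ↥(eGroup Q)), act g Φ.e = Φ.e → (∀ a ∈ Φ.W hQ, act g a ∈ Φ.W hQ) →
      ∀ a ∈ Φ.W hQ, ∀ p : X, g • el hQ Φ.e a • p = el hQ Φ.e (act g a) • g • p := fun g hg _ a ha p => by
    have := el_conj hQ g Φ.hQe (Φ.pol_e hQ ha)
    rw [hg] at this
    rw [← this, ← mul_smul, ← mul_smul, inv_mul_cancel_right]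
  have hcomb : ∀ a b : ι → F, a ∈ Φ.W hQ → b ∈ Φ.W hQ → ∀ p : X,
      el hQ Φ.e a • el hQ Φ.e b • p = el hQ Φ.e (a + b) • p := fun a b ha hb p => by
    rw [← mul_smul, ← el_add hQ Φ.hQe (Φ.pol_e hQ ha) (Φ.pol_e hQ hb)]
  have hfree : ∀ a ∈ Φ.W hQ, el hQ Φ.e a • x = x → a = 0 := fun a ha hax => by
    obtain ⟨c, rfl⟩ := htr a ⟨Φ.pol_e hQ ha, hax⟩
    by_contra hne
    exact Φ.not_line hQ ha hne c rfl
  have hcancel : ∀ a b : ι → F, a ∈ Φ.W hQ → b ∈ Φ.W hQ → el hQ Φ.e a • x = el hQ Φ.e b • x → a = b :=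
    fun a b ha hb e => sub_eq_zero.1 (hfree _ ((Φ.W hQ).sub_mem ha hb) (by
      have h1 := congrArg (fun p => el hQ Φ.e (-b) • p) e
      rwa [hcomb _ _ ((Φ.W hQ).neg_mem hb) ha, hcomb _ _ ((Φ.W hQ).neg_mem hb) hb, neg_add_cancel,
        el_zero hQ Φ.hQe, one_smul, neg_add_eq_sub] at h1))
  obtain ⟨y, hy, hhx⟩ := triv_single hQ hM hsmall Φ hP htr (by
    have := triv_map hQ h Φ.hQe htr
    rwa [hhe] at this)
  have hah : ∀ a, act h a = a + pol Q a v • u - pol Q a u • v - pol Q a v • v := fun a => by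
    rw [hh, act_el hQ hQv hvu, hQu, one_mul]
  -- the cube of `h` is trivial
  have hyv : pol Q y v = 0 := by
    have h3 : h * h * h = 1 := by
      rw [hh, ← el_add hQ hQv hvu hvu, ← el_add hQ hQv (by rw [padd_right hQ, hvu, add_zero]) hvu,
        show u + u + u = (3 : F) • u by module, three_eq_zero hM.three, zero_smul, el_zero hQ hQv]
    have h4 : el hQ Φ.e (act h (act h y) + act h y + y) • x = x := by
      have h5 : (h * h * h) • x = x := by rw [h3, one_smul]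
      rw [mul_smul, mul_smul, hhx, hconj h hhe hhW y hy, hhx, hcomb _ _ (hhW y hy) hy,
        hconj h hhe hhW _ ((Φ.W hQ).add_mem (hhW y hy) hy), hhx,
        hcomb _ _ (hhW _ ((Φ.W hQ).add_mem (hhW y hy) hy)) hy] at h5
      rwa [act_add] at h5
    have h6 := congrArg (fun a => pol Q a v')
      (hfree _ ((Φ.W hQ).add_mem ((Φ.W hQ).add_mem (hhW _ (hhW y hy)) (hhW y hy)) hy) h4)
    simp only [hah, padd_left hQ, psub_left hQ, psmul_left hQ, huv', hvv, huv, hvu, pol_self_singular hQ hQv,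
      pzero_left hQ, pself hQ u, hQu] at h6
    linear_combination h6 + (pol Q y u + 2 * pol Q y v - pol Q y v') * three_eq_zero (F := F) hM.three
  -- the elements commuting with `h`
  set R := orthIn hQ P₀ u with hR
  have hRnd : NdOn Q R := nd_orth hQ hP₀nd hu₀ huu
  have hRd : 3 ≤ Module.finrank F R := by
    have := finrank_orthIn hQ P₀ u
    rw [← hR] at this
    omega
  have hyR : ∀ r ∈ R, pol Q y r = 0 := mem_of_singular hQ hRnd hRd (S := {r | pol Q y r = 0})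
    (fun p hp r hr => by
      show pol Q y (p + r) = 0
      rw [padd_right hQ, hp, hr, add_zero]) fun s hs hQs => by
    show pol Q y s = 0
    rcases eq_or_ne s 0 with rfl | hs0
    · exact pzero_right hQ y
    obtain ⟨b, hb, hbn⟩ := SetLike.not_le_iff_exists.1 (show ¬ orthIn hQ R s ≤ Submodule.span F {s} from fun hle => by
      have h7 := Submodule.finrank_mono hle
      rw [finrank_span_singleton hs0] at h7
      have := finrank_orthIn hQ R s
      omega)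
    obtain ⟨hbR, hbs⟩ := (mem_orthIn hQ).1 hb
    obtain ⟨hs₀, hsu⟩ := (mem_orthIn hQ).1 hs
    obtain ⟨hb₀, hbu⟩ := (mem_orthIn hQ).1 hbR
    obtain ⟨hsW, hsv, hsv'⟩ := (mem_pairPerp hQ).1 hs₀
    obtain ⟨hbW, hbv, hbv'⟩ := (mem_pairPerp hQ).1 hb₀
    have hsb : pol Q s b = 0 := by rw [pcomm, hbs]
    set g := el hQ s b with hg
    have hge : act g Φ.e = Φ.e :=
      inner_fix hQ (el_mem_inner hQ hsW hbW hQs hsb) fun w hw => Φ.pol_e hQ hw
    have hgW : ∀ a ∈ Φ.W hQ, act g a ∈ Φ.W hQ := fun a ha =>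
      inner_maps hQ (el_mem_inner hQ hsW hbW hQs hsb) ha
    have hgh : g * h = h * g := by
      have h8 := el_conj hQ g hQv hvu
      rw [show act g v = v by rw [hg, act_el hQ hQs hsb, pcomm v s, hsv, pcomm v b, hbv]; module,
        show act g u = u by rw [hg, act_el hQ hQs hsb, pcomm u s, hsu, pcomm u b, hbu]; module, ← hh,
        mul_inv_eq_iff_eq_mul] at h8
      exact h8
    obtain ⟨z, hz', hgx⟩ := triv_single hQ hM hsmall Φ hP htr (by
      have := triv_map hQ g Φ.hQe htr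
      rwa [hge] at this)
    have h9 : act g y + z = act h z + y := by
      refine hcancel _ _ ((Φ.W hQ).add_mem (hgW y hy) hz') ((Φ.W hQ).add_mem (hhW z hz') hy) ?_
      rw [← hcomb _ _ (hgW y hy) hz', ← hcomb _ _ (hhW z hz') hy, ← hgx, ← hhx, ← hconj g hge hgW y hy,
        ← hconj h hhe hhW z hz', ← hgx, ← hhx, ← mul_smul, ← mul_smul, hgh]
    rw [hah z, hg, act_el hQ hQs hsb] at h9
    have hA : (pol Q y s • b - (pol Q y b + Q b * pol Q y s) • s) -
        (pol Q z v • u - (pol Q z u + pol Q z v) • v) = 0 := by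
      rw [← sub_eq_zero.2 h9]
      module
    have hzv := congrArg (fun a => pol Q a u) hA
    simp only [psub_left hQ, psmul_left hQ, hbu, hsu, hvu, pzero_left hQ] at hzv
    have hzv' : pol Q z v = 0 := by
      have h10 : pol Q z v * pol Q u u = 0 := by linear_combination -hzv
      exact (mul_eq_zero.1 h10).resolve_right huu
    have hzu := congrArg (fun a => pol Q a v') hA
    simp only [psub_left hQ, psmul_left hQ, hbv', hsv', huv', hvv, pzero_left hQ] at hzu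
    by_contra hys
    refine hbn (Submodule.mem_span_singleton.2 ⟨(pol Q y s)⁻¹ * (pol Q y b + Q b * pol Q y s), ?_⟩)
    have hzu' : pol Q z u = 0 := by linear_combination hzu - hzv'
    rw [hzv', hzu', zero_smul, add_zero, zero_smul, sub_zero, sub_zero, sub_eq_zero] at hA
    rw [← smul_smul, ← hA, smul_smul, inv_mul_cancel₀ hys, one_smul]
  -- so `h` fixes a point
  have hy0 : y - pol Q y v' • v ∈ P₀ := (mem_pairPerp hQ).2 ⟨(Φ.W hQ).sub_mem hy ((Φ.W hQ).smul_mem _ hv),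
    by rw [psub_left hQ, psmul_left hQ, hyv, pol_self_singular hQ hQv]; ring,
    by rw [psub_left hQ, psmul_left hQ, hvv]; ring⟩
  obtain ⟨c, hc⟩ := mem_span_of_orth hQ hP₀nd hu₀ hy0 fun r hr hru => by
    rw [psub_right hQ, psmul_right hQ, ((mem_pairPerp hQ).1 hr).2.1, pcomm r y,
      hyR r ((mem_orthIn hQ).2 ⟨hr, hru⟩)]
    ring
  set α := pol Q y v'
  set a := (-c) • v' + ((α + c) / 2) • u with ha
  have haW : a ∈ Φ.W hQ := (Φ.W hQ).add_mem ((Φ.W hQ).smul_mem _ hv') ((Φ.W hQ).smul_mem _ huW)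
  have hfix : h • el hQ Φ.e a • x = el hQ Φ.e a • x := by
    rw [hconj h hhe hhW a haW, hhx, hcomb _ _ (hhW a haW) hy]
    congr 2
    rw [hah, show y = α • v + c • u by rw [← hc]; abel, ha]
    simp only [padd_left hQ, psmul_left hQ, pcomm v' v, hvv, huv, pcomm v' u, huv', pself hQ u, hQu]
    match_scalars <;> field_simp <;> ring
  have hp : Triv hQ (el hQ Φ.e a • x) Φ.e := by
    have := triv_map hQ (el hQ Φ.e a) Φ.hQe htr
    rwa [act_el_center hQ hM hsmall Φ (Φ.pol_e hQ haW)] at this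
  obtain ⟨d, hd⟩ := hall _ hp v hQv hv0 u ⟨hvu, hfix⟩
  rw [hd, qsmul hQ, hQv, mul_zero] at hQu
  exact zero_ne_one hQu

end CfsgLib.PGroup.OrthThreeIndex
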